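/-
Trace zero matrices and their fixed points in `PSL(2, q)`, `q` odd.
-/
import Cfsg.Agent.GenDihedral.Red.AutTwo
import Cfsg.Agent.Classical.PSLTwoDihedral
import Cfsg.Agent.Known.Balance.PSL
import Cfsg.Agent.Classical.Misc.PSLFourGroups

set_option autoImplicit false
set_option linter.unusedSectionVars false
set_option linter.style.haveILetI false

namespace Cfsg.Lib.DihedralPair

open Matrix Cfsg.Lib.Known.AutPSLn Cfsg.Lib.CyclicNorm

variable {F : Type} [Field F] [Fintype F]

local notation "M2" => Matrix (Fin 2) (Fin 2) F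
local notation "GL2" => GL (Fin 2) F
local notation "S2" => Matrix.SpecialLinearGroup (Fin 2) F
local notation "P2" => Matrix.ProjectiveSpecialLinearGroup (Fin 2) F
local notation "πP" => QuotientGroup.mk' (Subgroup.center S2)

theorem two_ne (hodd : Fintype.card F % 2 = 1) : (2 : F) ≠ 0 :=
  Cfsg.Lib.PSLTwoDihedral.two_ne_zero' hodd

theorem π_eq_one {M : S2} : πP M = 1 ↔ (M : M2) = 1 ∨ (M : M2) = -1 := by
  rw [QuotientGroup.mk'_apply, QuotientGroup.eq_one_iff, Matrix.SpecialLinearGroup.mem_center_iff]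
  constructor
  · rintro ⟨r, hr, e⟩
    rw [Fintype.card_fin] at hr
    rcases sq_eq_one_iff.mp hr with rfl | rfl
    · left; rw [← e, map_one]
    · right; rw [← e, map_neg, map_one]
  · rintro (e | e)
    · exact ⟨1, one_pow _, by rw [e, map_one]⟩
    · exact ⟨-1, by simp, by rw [e, map_neg, map_one]⟩

theorem π_eq_of_val {M N : S2} (h : (M : M2) = N ∨ (M : M2) = -(N : M2)) : πP M = πP N := by
  rw [← mul_inv_eq_one, ← map_inv, ← map_mul, π_eq_one]
  have hN : (N : M2) * ((N⁻¹ : S2) : M2) = 1 := congrArg Subtype.val (mul_inv_cancel N)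
  rcases h with h | h
  · exact Or.inl (by rw [Matrix.SpecialLinearGroup.coe_mul, h, hN])
  · exact Or.inr (by rw [Matrix.SpecialLinearGroup.coe_mul, h, neg_mul, hN])

/-- how conjugation by `A` moves the image of `M` -/
theorem conjP_map_eq {A : GL2} {M N : S2}
    (h : (A : M2) * M = (N : M2) * A ∨ (A : M2) * M = -((N : M2) * A)) :
    (conjP A : MulAut P2) (πP M) = πP N := by
  refine (conjP_apply A M).trans (π_eq_of_val ?_)
  rw [coe_conjSL]
  rcases h with h | h
  · exact Or.inl (by rw [h, mul_assoc, A.mul_inv, mul_one])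
  · exact Or.inr (by rw [h, neg_mul, mul_assoc, A.mul_inv, mul_one])

theorem sq_trace_zero {A : M2} (ht : A 1 1 = -A 0 0) : A * A = (-A.det) • (1 : M2) := by
  ext i j
  fin_cases i <;> fin_cases j <;> simp [Matrix.mul_apply, Fin.sum_univ_two, Matrix.det_fin_two, ht] <;> ring

theorem det_ne (A : GL2) : (A : M2).det ≠ 0 := (GeneralLinearGroup.det A).ne_zero

theorem trace_zero_ne (hodd : Fintype.card F % 2 = 1) {A : GL2} (ht : (A : M2) 1 1 = -(A : M2) 0 0)
    (c : F) : (A : M2) ≠ c • (1 : M2) := by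
  intro e
  rw [e] at ht
  simp at ht
  have hc : c = 0 := (mul_eq_zero.1 (show (2 : F) * c = 0 by linear_combination ht)).resolve_left (two_ne hodd)
  exact det_ne A (by rw [e, hc]; simp)

/-- a trace zero matrix is conjugate to its companion matrix -/
theorem exists_companion (hodd : Fintype.card F % 2 = 1) {A : GL2} (ht : (A : M2) 1 1 = -(A : M2) 0 0) :
    ∃ P : GL2, (A : M2) * P = (P : M2) * !![0, -(A : M2).det; 1, 0] := by
  have hd := det_ne A
  have key : ∀ p r : F, (p * ((A : M2) 1 0 * p + (A : M2) 1 1 * r) -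
      ((A : M2) 0 0 * p + (A : M2) 0 1 * r) * r ≠ 0) →
      ∃ P : GL2, (A : M2) * P = (P : M2) * !![0, -(A : M2).det; 1, 0] := by
    intro p r hne
    refine ⟨GeneralLinearGroup.mkOfDetNeZero
      !![p, (A : M2) 0 0 * p + (A : M2) 0 1 * r; r, (A : M2) 1 0 * p + (A : M2) 1 1 * r]
      (by simpa [det_fin_two] using hne), ?_⟩
    show (A : M2) * !![p, _; r, _] = !![p, _; r, _] * _
    ext i j
    fin_cases i <;> fin_cases j <;> simp [Matrix.mul_apply, Fin.sum_univ_two, det_fin_two, ht] <;> ring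
  by_cases h10 : (A : M2) 1 0 = 0
  · by_cases h01 : (A : M2) 0 1 = 0
    · refine key 1 1 ?_
      rw [h10, h01, ht]
      have ha : (A : M2) 0 0 ≠ 0 := fun e => hd (by simp [det_fin_two, h10, h01, e])
      intro e
      exact ha ((mul_eq_zero.1 (show (2 : F) * (A : M2) 0 0 = 0 by linear_combination -e)).resolve_left
        (two_ne hodd))
    · exact key 0 1 (by simpa using h01)
  · exact key 1 0 (by simpa using h10)

/-- an involution of `PSL₂` fixed by, and different from, a trace zero matrix -/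
theorem exists_anti (hodd : Fintype.card F % 2 = 1) {A : GL2} (ht : (A : M2) 1 1 = -(A : M2) 0 0) :
    ∃ W : S2, (W : M2) * W = -1 ∧ (A : M2) * W = -((W : M2) * A) := by
  obtain ⟨P, hP⟩ := exists_companion hodd ht
  set α := -(A : M2).det with hα
  obtain ⟨p, r, hpr⟩ := Cfsg.Lib.PSLTwoDihedral.exists_norm_eq hodd
    (neg_ne_zero.2 (det_ne A) : α ≠ 0) (-1)
  set N : M2 := !![0, α; 1, 0] with hN
  set W0 : S2 := ⟨!![p, -(α * r); r, -p], by simp [det_fin_two]; linear_combination -hpr⟩ with hW0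
  have e1 : (W0 : M2) * W0 = -1 := by
    rw [hW0]
    ext i j
    fin_cases i <;> fin_cases j <;> simp [Matrix.mul_apply, Fin.sum_univ_two] <;>
      first | linear_combination hpr | ring
  have e2 : N * (W0 : M2) = -((W0 : M2) * N) := by
    rw [hW0, hN]
    ext i j
    fin_cases i <;> fin_cases j <;> simp [Matrix.mul_apply, Fin.sum_univ_two] <;> ring
  set Q := ((P⁻¹ : GL2) : M2) with hQ
  have hPQ : (P : M2) * Q = 1 := P.mul_inv
  have hQP : Q * (P : M2) = 1 := P.inv_mul
  have hA : (A : M2) = (P : M2) * N * Q := by rw [← hP, mul_assoc, hPQ, mul_one]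
  have hconj : ∀ X Y : M2, (P : M2) * X * Q * ((P : M2) * Y * Q) = (P : M2) * (X * Y) * Q := fun X Y => by
    calc (P : M2) * X * Q * ((P : M2) * Y * Q) = (P : M2) * X * (Q * P) * (Y * Q) := by
          simp only [mul_assoc]
      _ = _ := by rw [hQP]; simp [mul_assoc]
  refine ⟨conjSL P W0, ?_, ?_⟩
  · rw [coe_conjSL, ← hQ, hconj, e1, mul_neg, neg_mul, mul_one, hPQ]
  · rw [coe_conjSL, ← hQ, hA, hconj, hconj, e2, mul_neg, neg_mul]

/-- `x + y A` -/
def el (A : GL2) (ht : (A : M2) 1 1 = -(A : M2) 0 0) (x y : F) (h : x ^ 2 + y ^ 2 * (A : M2).det = 1) : S2 :=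
  ⟨x • (1 : M2) + y • (A : M2), by
    simp [det_fin_two, ht]
    rw [det_fin_two, ht] at h
    linear_combination h⟩

theorem coe_el (A : GL2) (ht : (A : M2) 1 1 = -(A : M2) 0 0) (x y : F)
    (h : x ^ 2 + y ^ 2 * (A : M2).det = 1) : (el A ht x y h : M2) = x • (1 : M2) + y • (A : M2) := rfl

/-- a torus element of `A` is inverted by whatever anticommutes with `A` -/
theorem el_anti {A : GL2} (ht : (A : M2) 1 1 = -(A : M2) 0 0) {x y : F}
    (h : x ^ 2 + y ^ 2 * (A : M2).det = 1) {B : M2} (hB : B * (A : M2) = -((A : M2) * B)) :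
    B * (el A ht x y h : M2) = (((el A ht x y h)⁻¹ : S2) : M2) * B := by
  have hinv : (((el A ht x y h)⁻¹ : S2) : M2) = x • (1 : M2) - y • (A : M2) := by
    rw [Matrix.SpecialLinearGroup.coe_inv, coe_el, adjugate_fin_two]
    ext i j
    fin_cases i <;> fin_cases j <;> simp [ht] <;> ring
  rw [hinv, coe_el, mul_add, sub_mul, mul_smul_comm, mul_smul_comm, smul_mul_assoc, smul_mul_assoc, mul_one,
    one_mul, hB, smul_neg, ← sub_eq_add_neg]

theorem neg_one_square_mul {α : F} (hodd : Fintype.card F % 2 = 1) (hα : ¬ IsSquare (-α)) :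
    (Fintype.card F % 4 = 1 → ¬ IsSquare α) ∧ (Fintype.card F % 4 = 3 → IsSquare α) := by
  classical
  have hα0 : α ≠ 0 := fun e => hα (by rw [e, neg_zero]; exact ⟨0, by simp⟩)
  refine ⟨fun h1 hs => hα ?_, fun h3 => ?_⟩
  · rw [show -α = -1 * α by ring]
    exact IsSquare.mul (FiniteField.isSquare_neg_one_iff.2 (by omega)) hs
  · by_contra hs
    have hchar : ringChar F ≠ 2 := fun e => by
      have := FiniteField.even_card_of_char_two e
      omega
    have h2 : ¬ IsSquare (-1 : F) := fun e => FiniteField.isSquare_neg_one_iff.1 e h3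
    have hmul : quadraticChar F (-α) = 1 := by
      rw [show -α = -1 * α by ring, map_mul, quadraticChar_neg_one_iff_not_isSquare.2 h2,
        quadraticChar_neg_one_iff_not_isSquare.2 hs]
      norm_num
    exact hα ((quadraticChar_one_iff_isSquare (neg_ne_zero.2 hα0)).1 hmul)

/-- the order of the odd part of the torus of a non-square -/
def torN (q : ℕ) : ℕ := if q % 4 = 1 then (q + 1) / 2 else (q - 1) / 2

/-- an element of order `torN q` in the torus of `A`, `-det A`'s class being that of an outer involution -/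
theorem exists_el_order (hodd : Fintype.card F % 2 = 1) {A : GL2} (ht : (A : M2) 1 1 = -(A : M2) 0 0)
    (hns : ¬ IsSquare (A : M2).det) :
    ∃ (x y : F) (h : x ^ 2 + y ^ 2 * (A : M2).det = 1), orderOf (πP (el A ht x y h)) = torN (Fintype.card F) := by
  classical
  set q := Fintype.card F with hq
  set d := (A : M2).det with hd
  obtain ⟨h1', h3'⟩ := neg_one_square_mul (α := -d) hodd (by rwa [neg_neg])
  obtain ⟨δ, s, hs0, hds, hcard⟩ : ∃ δ s : F, s ≠ 0 ∧ -d = δ * s ^ 2 ∧
      Nat.card (Cfsg.Lib.PSLTwoDihedral.torus δ) = 2 * torN q := by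
    by_cases h4 : q % 4 = 1
    · refine ⟨-d, 1, one_ne_zero, by ring, ?_⟩
      rw [Cfsg.Lib.PSLTwoDihedral.card_torus_nonsquare hodd (h1' h4), torN, if_pos h4]
      omega
    · obtain ⟨s, hs⟩ := h3' (by omega)
      refine ⟨1, s, fun e => det_ne A ?_, by rw [hs]; ring, ?_⟩
      · rw [e, mul_zero] at hs; exact neg_eq_zero.1 hs
      · rw [Cfsg.Lib.PSLTwoDihedral.card_torus_one hodd, torN, if_neg h4]
        omega
  haveI := Cfsg.Lib.PSLTwoDihedral.torus_cyclic hodd (δ := δ)
    (fun e => det_ne A (by rw [e, zero_mul] at hds; exact neg_eq_zero.1 hds))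
  let T := Cfsg.Lib.PSLTwoDihedral.torus δ
  have hn : ∀ M : T, ((M : S2) : M2) 0 0 ^ 2 + (((M : S2) : M2) 1 0 / s) ^ 2 * d = 1 := fun M => by
    have h := Cfsg.Lib.PSLTwoDihedral.torus_norm M.2
    rw [show d = -(δ * s ^ 2) by rw [← hds, neg_neg]]
    field_simp
    linear_combination h
  have hAA : (A : M2) * A = (δ * s ^ 2) • (1 : M2) := by rw [sq_trace_zero ht, ← hd, hds]
  let φ : T →* S2 := MonoidHom.mk' (fun M => el A ht _ _ (hn M)) fun M N => Subtype.ext (by
    show (el A ht _ _ (hn (M * N)) : M2) = (el A ht _ _ (hn M) : M2) * (el A ht _ _ (hn N) : M2)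
    simp only [coe_el, mul_add, add_mul, smul_mul_assoc, mul_smul_comm, mul_one, one_mul, hAA, smul_smul,
      Subgroup.coe_mul, Cfsg.Lib.Known.AutPSL2.cmul, Matrix.mul_apply, Fin.sum_univ_two, M.2.1, M.2.2]
    match_scalars <;> field_simp <;> ring)
  have hφ : Function.Injective φ := by
    intro M N e
    have e' : ((M : S2) : M2) 0 0 • (1 : M2) + (((M : S2) : M2) 1 0 / s) • (A : M2) =
        ((N : S2) : M2) 0 0 • (1 : M2) + (((N : S2) : M2) 1 0 / s) • (A : M2) := congrArg Subtype.val e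
    have h00 := congrFun (congrFun e' 0) 0
    have h11 := congrFun (congrFun e' 1) 1
    simp [ht] at h00 h11
    have hx : ((M : S2) : M2) 0 0 = ((N : S2) : M2) 0 0 := mul_left_cancel₀ (two_ne hodd)
      (by linear_combination h00 + h11)
    refine Cfsg.Lib.PSLTwoDihedral.torus_ext hx ?_
    rw [hx, add_right_inj] at e'
    by_contra hne
    exact trace_zero_ne hodd ht 0 (by
      rw [zero_smul]
      refine (smul_eq_zero.1 (?_ : ((((M : S2) : M2) 1 0 - ((N : S2) : M2) 1 0) / s) • (A : M2) = 0)).resolve_left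
        (div_ne_zero (sub_ne_zero.2 hne) hs0)
      rw [sub_div, sub_smul, e', sub_self])
  obtain ⟨g, hg⟩ := IsCyclic.exists_ofOrder_eq_natCard (α := T)
  refine ⟨_, _, hn g, ?_⟩
  set m := torN q with hm
  have ho : orderOf (φ g) = 2 * m := by rw [orderOf_injective φ hφ, hg]; exact hcard
  have hm1 : 0 < m := by
    have h1 := Fintype.one_lt_card (α := F)
    rw [← hq] at h1
    rw [hm, torN]
    split_ifs <;> omega
  have hkey : ∀ k : ℕ, (πP (φ g)) ^ k = 1 ↔ m ∣ k := by
    intro k
    rw [← map_pow, π_eq_one]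
    constructor
    · intro h
      have h2 : φ g ^ (2 * k) = 1 := by
        rw [pow_mul']
        refine Subtype.ext ?_
        rw [Matrix.SpecialLinearGroup.coe_pow, pow_two]
        rcases h with h | h <;> simp [h]
      exact (Nat.mul_dvd_mul_iff_left two_pos).1 (ho ▸ orderOf_dvd_of_pow_eq_one h2)
    · rintro ⟨j, rfl⟩
      have h2 : (φ g ^ (m * j)) ^ 2 = 1 := by
        rw [← pow_mul, show m * j * 2 = 2 * m * j by ring, pow_mul, ← ho, pow_orderOf_eq_one, one_pow]
      have ho' : Odd (Fintype.card F) := Nat.odd_iff.2 hodd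
      rcases Cfsg.Lib.Classical.PSLFour.eq_or_neg ho' (g := φ g ^ (m * j)) (by rw [← pow_two]; exact h2)
        with e | e
      · exact Or.inl (by rw [e]; rfl)
      · exact Or.inr (by rw [e]; rfl)
  exact Nat.dvd_antisymm (orderOf_dvd_of_pow_eq_one ((hkey m).2 dvd_rfl)) ((hkey _).1 (pow_orderOf_eq_one _))

end Cfsg.Lib.DihedralPair
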