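/-
An involutory automorphism of `PSL(2, q)`, `q` odd, fixing no four-group is conjugation by a trace zero matrix
with non-square determinant.
-/
import Cfsg.Agent.DihedralPair.Torus

set_option autoImplicit false
set_option linter.unusedSectionVars false
set_option linter.style.haveILetI false

namespace Cfsg.Lib.DihedralPair

open Matrix Cfsg.Lib.Known.AutPSLn Cfsg.Lib.CyclicNorm

/-- two commuting involutions among the fixed points -/
def FixesFour {P : Type*} [Group P] (β : MulAut P) : Prop :=
  ∃ u v : P, β u = u ∧ β v = v ∧ u * u = 1 ∧ v * v = 1 ∧ u ≠ 1 ∧ v ≠ 1 ∧ u ≠ v ∧ u * v = v * u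

variable {F : Type} [Field F] [Fintype F]

local notation "M2" => Matrix (Fin 2) (Fin 2) F
local notation "GL2" => GL (Fin 2) F
local notation "S2" => Matrix.SpecialLinearGroup (Fin 2) F
local notation "P2" => Matrix.ProjectiveSpecialLinearGroup (Fin 2) F
local notation "πP" => QuotientGroup.mk' (Subgroup.center S2)

/-- an anticommuting pair of square roots of `-1` fixed by `β` gives a four-group -/
theorem fixesFour_of_pair (hodd : Fintype.card F % 2 = 1) {β : MulAut P2} {U V : S2}
    (hU : (U : M2) * U = -1) (hV : (V : M2) * V = -1) (hUV : (U : M2) * V = -((V : M2) * U))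
    (h1 : β (πP U) = πP U) (h2 : β (πP V) = πP V) : FixesFour β := by
  have hne : ∀ X : S2, (X : M2) * X = -1 → πP X ≠ 1 := by
    intro X hX e
    rcases π_eq_one.1 e with e | e <;> rw [e] at hX <;>
      exact Cfsg.Lib.PSLTwoDihedral.neg_one_ne_one hodd (by simpa using hX.symm)
  have hsq : ∀ X : S2, (X : M2) * X = -1 → πP X * πP X = 1 := fun X hX => by
    rw [← map_mul, π_eq_one]; exact Or.inr hX
  refine ⟨_, _, h1, h2, hsq U hU, hsq V hV, hne U hU, hne V hV, fun e => ?_, ?_⟩
  · have h3 : πP (U⁻¹ * V) = 1 := by rw [map_mul, map_inv, e, inv_mul_cancel]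
    have hVU : (V : M2) = (U : M2) * ((U⁻¹ * V : S2) : M2) := congrArg Subtype.val (mul_inv_cancel_left U V).symm
    rcases π_eq_one.1 h3 with e3 | e3 <;> rw [e3] at hVU
    · rw [mul_one] at hVU
      rw [hVU, hU, neg_neg] at hUV
      exact Cfsg.Lib.PSLTwoDihedral.neg_one_ne_one hodd hUV
    · rw [mul_neg, mul_one] at hVU
      rw [hVU, mul_neg, neg_mul, hU, neg_neg] at hUV
      exact Cfsg.Lib.PSLTwoDihedral.neg_one_ne_one hodd hUV.symm
  · rw [← map_mul, ← map_mul]
    exact π_eq_of_val (Or.inr hUV)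

/-- a fixed element of a finite field under an involutory automorphism is a square -/
theorem isSquare_of_fixed (hodd : Fintype.card F % 2 = 1) {τ : F ≃+* F} (hτ : τ * τ = 1) (hne : τ ≠ 1)
    {a : F} (ha : τ a = a) : IsSquare a := by
  classical
  have hττ : ∀ x, τ (τ x) = x := fun x => congrArg (fun f : F ≃+* F => f x) hτ
  obtain ⟨x₀, hx₀⟩ : ∃ x, τ x ≠ x := by
    by_contra h; push Not at h; exact hne (RingEquiv.ext h)
  set e := x₀ - τ x₀ with he
  have he0 : e ≠ 0 := sub_ne_zero.2 hx₀.symm
  have hτe : τ e = -e := by rw [he, map_sub, hττ, neg_sub]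
  have hee : τ (e * e) = e * e := by rw [map_mul, hτe, neg_mul_neg]
  let K : Subfield F := (τ.toRingHom).eqLocusField (RingHom.id F)
  haveI : Fintype K := Fintype.ofFinite _
  by_cases ha0 : a = 0
  · exact ⟨0, by rw [ha0, mul_zero]⟩
  have hK : ringChar K ≠ 2 := by
    intro h
    haveI : CharP K 2 := ringChar.of_eq h
    haveI : CharP F 2 := charP_of_injective_ringHom (f := K.subtype) K.subtype.injective 2
    exact two_ne hodd (CharTwo.two_eq_zero (R := F))
  by_contra hns
  set a' : K := ⟨a, ha⟩ with ha'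
  set e' : K := ⟨e * e, hee⟩ with he'
  have h1 : ¬ IsSquare a' := fun ⟨k, hk⟩ => hns ⟨k, congrArg Subtype.val hk⟩
  have h2 : ¬ IsSquare e' := by
    rintro ⟨k, hk⟩
    have hk' : e * e = (k : F) * k := congrArg Subtype.val hk
    have hke : τ e = e := by
      rcases mul_self_eq_mul_self_iff.1 hk' with h | h
      · rw [h]; exact k.2
      · rw [h, map_neg]; exact congrArg Neg.neg k.2
    exact he0 ((mul_eq_zero.1 (show (2 : F) * e = 0 by linear_combination (hτe ▸ hke.symm : e = -e))).resolve_left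
      (two_ne hodd))
  have hprod : quadraticChar K (a' * e') = 1 := by
    rw [map_mul, quadraticChar_neg_one_iff_not_isSquare.2 h1, quadraticChar_neg_one_iff_not_isSquare.2 h2]
    norm_num
  obtain ⟨k, hk⟩ := (quadraticChar_one_iff_isSquare (mul_ne_zero (fun h => ha0 (congrArg Subtype.val h))
    (fun h => mul_ne_zero he0 he0 (congrArg Subtype.val h)))).1 hprod
  have hk' : a * (e * e) = (k : F) * k := congrArg Subtype.val hk
  exact hns ⟨(k : F) / e, by field_simp; linear_combination hk'⟩

/-- a field automorphism composed with a matrix fixes a four-group -/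
theorem fixesFour_field (hodd : Fintype.card F % 2 = 1) {g : GL2} {τ : F ≃+* F} (hne : τ ≠ 1)
    (hβ : ((conjP g : MulAut P2) * fieldP τ) * (conjP g * fieldP τ) = 1) :
    FixesFour ((conjP g : MulAut P2) * fieldP τ) := by
  have hexp : (conjP g : MulAut P2) * fieldP τ * (conjP g * fieldP τ) =
      conjP (g * glMap τ g) * fieldP (τ * τ) := by
    rw [show (conjP g : MulAut P2) * fieldP τ * (conjP g * fieldP τ) =
      conjP g * (fieldP τ * conjP g) * fieldP τ by group, fieldP_mul_conjP, ← mul_assoc, ← map_mul, mul_assoc,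
      ← map_mul]
  rw [hexp] at hβ
  obtain ⟨hcen, hττ'⟩ := conjP_fieldP_eq_one le_rfl hβ
  have hττ : ∀ x, τ (τ x) = x := fun x => congrArg (fun f : F ≃+* F => f x) hττ'
  obtain ⟨lam, hlam⟩ := center_smul hcen
  rw [Units.val_mul, coe_glMap] at hlam
  -- the scalar is fixed
  have hlam' : (g : M2).map τ * (g : M2) = lam • (1 : M2) := by
    have h : (g : M2) * ((g : M2).map τ * (g : M2)) = (g : M2) * (lam • (1 : M2)) := by
      rw [← mul_assoc, hlam, smul_mul_assoc, one_mul, mul_smul_comm, mul_one]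
    have := congrArg (((g⁻¹ : GL2) : M2) * ·) h
    simpa only [← mul_assoc, g.inv_mul, one_mul] using this
  have hlamfix : τ lam = lam := by
    have h := congrArg (fun M : M2 => M.map τ) hlam
    simp only [Matrix.map_mul, Matrix.map_map] at h
    have hmm : ((g : M2).map (⇑τ ∘ ⇑τ)) = (g : M2) := by
      ext i j; exact hττ _
    rw [hmm, hlam'] at h
    have h00 := congrFun (congrFun h 0) 0
    simpa using h00.symm
  have hlam0 : lam ≠ 0 := fun e => by
    rw [e, zero_smul] at hlam
    have h := congrArg Matrix.det hlam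
    rw [Matrix.det_mul, Matrix.det_zero] at h
    rcases mul_eq_zero.1 h with h | h
    · exact det_ne g h
    · have hd : ((g : M2).map τ).det = τ (g : M2).det := (RingHom.map_det τ.toRingHom _).symm
      rw [hd] at h
      exact det_ne g (τ.injective (h.trans (map_zero τ).symm))
  -- a cyclic vector
  obtain ⟨x₀, hx₀⟩ : ∃ x, τ x ≠ x := by
    by_contra h; push Not at h; exact hne (RingEquiv.ext h)
  obtain ⟨P, hP⟩ : ∃ P : GL2, (g : M2) * (P : M2).map τ = (P : M2) * !![0, lam; 1, 0] := by
    have key : ∀ p r : F, (p * ((g : M2) 1 0 * τ p + (g : M2) 1 1 * τ r) -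
        ((g : M2) 0 0 * τ p + (g : M2) 0 1 * τ r) * r ≠ 0) →
        ∃ P : GL2, (g : M2) * (P : M2).map τ = (P : M2) * !![0, lam; 1, 0] := by
      intro p r hne'
      refine ⟨GeneralLinearGroup.mkOfDetNeZero
        !![p, (g : M2) 0 0 * τ p + (g : M2) 0 1 * τ r; r, (g : M2) 1 0 * τ p + (g : M2) 1 1 * τ r]
        (by simpa [det_fin_two] using hne'), ?_⟩
      show (g : M2) * (!![p, _; r, _] : M2).map τ = !![p, _; r, _] * _
      have a00 := congrFun (congrFun hlam 0) 0
      have a01 := congrFun (congrFun hlam 0) 1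
      have a10 := congrFun (congrFun hlam 1) 0
      have a11 := congrFun (congrFun hlam 1) 1
      simp [Matrix.mul_apply, Fin.sum_univ_two] at a00 a01 a10 a11
      ext i j
      fin_cases i <;> fin_cases j <;> simp [Matrix.mul_apply, Fin.sum_univ_two, hττ]
      · linear_combination p * a00 + r * a01
      · linear_combination p * a10 + r * a11
    by_cases h10 : (g : M2) 1 0 = 0
    · by_cases h01 : (g : M2) 0 1 = 0
      · by_cases h01' : (g : M2) 1 1 = (g : M2) 0 0
        · refine key 1 x₀ ?_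
          rw [h10, h01, h01', map_one]
          intro e
          have hg0 : (g : M2) 0 0 ≠ 0 := fun h0 => det_ne g (by simp [det_fin_two, h10, h0])
          exact hx₀ (mul_left_cancel₀ hg0 (show (g : M2) 0 0 * τ x₀ = (g : M2) 0 0 * x₀ by linear_combination e))
        · refine key 1 1 ?_
          rw [h10, h01, map_one]
          intro e
          exact h01' (by linear_combination e)
      · refine key 0 1 ?_
        rw [map_zero, map_one]
        simpa using h01
    · refine key 1 0 ?_
      rw [map_zero, map_one]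
      simpa using h10
  set N : M2 := !![0, lam; 1, 0] with hN
  set Q := ((P⁻¹ : GL2) : M2) with hQ
  have hPQ : (P : M2) * Q = 1 := P.mul_inv
  have hQP : Q * (P : M2) = 1 := P.inv_mul
  have hτP : (P : M2).map τ * Q.map τ = 1 := by
    rw [← Matrix.map_mul, hPQ, Matrix.map_one τ (map_zero τ) (map_one τ)]
  have hfix : ∀ X : S2, (N * (X : M2).map τ = (X : M2) * N ∨ N * (X : M2).map τ = -((X : M2) * N)) →
      ((conjP g * fieldP τ : MulAut P2)) (πP (conjSL P X)) = πP (conjSL P X) := by
    intro X hX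
    rw [MulAut.mul_apply, show fieldP τ (πP (conjSL P X)) = πP (fieldSL τ (conjSL P X)) from rfl]
    refine conjP_map_eq ?_
    rw [coe_fieldSL, coe_conjSL, ← hQ, Matrix.map_mul, Matrix.map_mul]
    have hL : (g : M2) * ((P : M2).map τ * (X : M2).map τ * Q.map τ) =
        (P : M2) * (N * (X : M2).map τ) * Q.map τ := by
      rw [← mul_assoc, ← mul_assoc, hP, mul_assoc (P : M2)]
    have hR : (P : M2) * (X : M2) * Q * (g : M2) = (P : M2) * ((X : M2) * N) * Q.map τ := by
      have hg : (g : M2) = (P : M2) * N * Q.map τ := by rw [← hP, mul_assoc, hτP, mul_one]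
      conv_lhs => rw [hg]
      calc (P : M2) * (X : M2) * Q * ((P : M2) * N * Q.map τ)
          = (P : M2) * (X : M2) * (Q * P) * (N * Q.map τ) := by simp only [mul_assoc]
        _ = _ := by rw [hQP]; simp [mul_assoc]
    rw [hL, hR]
    rcases hX with h | h
    · exact Or.inl (by rw [h])
    · exact Or.inr (by rw [h, mul_neg, neg_mul])
  -- the four-group
  obtain ⟨hm1, -⟩ := Cfsg.Lib.GenDihedral.field_facts (Nat.odd_iff.2 hodd) hττ' hne
  obtain ⟨i, hi⟩ := hm1
  have hτi : τ i = i ∨ τ i = -i := by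
    refine mul_self_eq_mul_self_iff.1 ?_
    rw [← map_mul, ← hi, map_neg, map_one]
  obtain ⟨b, hb⟩ := isSquare_of_fixed hodd hττ' hne hlamfix
  have hb0 : b ≠ 0 := fun e => hlam0 (by rw [hb, e, mul_zero])
  have hτb : τ b = b ∨ τ b = -b := by
    refine mul_self_eq_mul_self_iff.1 ?_
    rw [← map_mul, ← hb, hlamfix]
  set U : S2 := ⟨!![i, 0; 0, -i], by simp [det_fin_two]; linear_combination hi⟩ with hU
  set V : S2 := ⟨!![0, b; -b⁻¹, 0], by simp [det_fin_two]; field_simp⟩ with hV
  have hτN : ∀ M : M2, M.map τ = !![τ (M 0 0), τ (M 0 1); τ (M 1 0), τ (M 1 1)] := fun M => by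
    ext r c; fin_cases r <;> fin_cases c <;> simp
  refine fixesFour_of_pair hodd (U := conjSL P U) (V := conjSL P V) ?_ ?_ ?_ (hfix U ?_) (hfix V ?_)
  · rw [coe_conjSL, ← hQ]
    calc (P : M2) * U * Q * ((P : M2) * U * Q) = (P : M2) * U * (Q * P) * (U * Q) := by simp only [mul_assoc]
      _ = (P : M2) * ((U : M2) * U) * Q := by rw [hQP]; simp [mul_assoc]
      _ = -1 := by
        rw [show (U : M2) * U = -1 by
          rw [hU]; ext r c; fin_cases r <;> fin_cases c <;> simp [Matrix.mul_apply, Fin.sum_univ_two] <;>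
            linear_combination -hi, mul_neg, mul_one, neg_mul, hPQ]
  · rw [coe_conjSL, ← hQ]
    calc (P : M2) * V * Q * ((P : M2) * V * Q) = (P : M2) * V * (Q * P) * (V * Q) := by simp only [mul_assoc]
      _ = (P : M2) * ((V : M2) * V) * Q := by rw [hQP]; simp [mul_assoc]
      _ = -1 := by
        rw [show (V : M2) * V = -1 by
          rw [hV]; ext r c; fin_cases r <;> fin_cases c <;> simp [Matrix.mul_apply, Fin.sum_univ_two] <;>
            field_simp, mul_neg, mul_one, neg_mul, hPQ]
  · rw [coe_conjSL, coe_conjSL, ← hQ]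
    calc (P : M2) * U * Q * ((P : M2) * V * Q) = (P : M2) * U * (Q * P) * (V * Q) := by simp only [mul_assoc]
      _ = (P : M2) * ((U : M2) * V) * Q := by rw [hQP]; simp [mul_assoc]
      _ = -((P : M2) * ((V : M2) * U) * Q) := by
        rw [show (U : M2) * V = -((V : M2) * U) by
          rw [hU, hV]; ext r c; fin_cases r <;> fin_cases c <;> simp [Matrix.mul_apply, Fin.sum_univ_two] <;>
            ring, mul_neg, neg_mul]
      _ = -((P : M2) * V * (Q * P) * (U * Q)) := by rw [hQP]; simp [mul_assoc]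
      _ = _ := by simp only [mul_assoc]
  · rw [hτN, hU, hN]
    rcases hτi with h | h
    · right; ext r c; fin_cases r <;> fin_cases c <;> simp [Matrix.mul_apply, Fin.sum_univ_two, h] <;> ring
    · left; ext r c; fin_cases r <;> fin_cases c <;> simp [Matrix.mul_apply, Fin.sum_univ_two, h] <;> ring
  · rw [hτN, hV, hN]
    rcases hτb with h | h
    · right; ext r c; fin_cases r <;> fin_cases c <;>
        simp [Matrix.mul_apply, Fin.sum_univ_two, h, map_inv₀] <;> field_simp <;>
          (first | linear_combination hb | linear_combination -hb)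
    · left; ext r c; fin_cases r <;> fin_cases c <;>
        simp [Matrix.mul_apply, Fin.sum_univ_two, h, map_inv₀] <;> field_simp <;>
          (first | linear_combination hb | linear_combination -hb)

/-- THE CLASSIFICATION -/
theorem outer_form (hodd : Fintype.card F % 2 = 1) {β : MulAut P2} (hβ : β * β = 1) (hne : β ≠ 1)
    (hfour : ¬ FixesFour β) :
    ∃ A : GL2, β = conjP A ∧ (A : M2) 1 1 = -(A : M2) 0 0 ∧ ¬ IsSquare (A : M2).det := by
  obtain ⟨g, τ, rfl⟩ := Cfsg.Lib.GenDihedral.decomp_two β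
  by_cases hτ : τ = 1
  swap
  · exact absurd (fixesFour_field hodd hτ hβ) hfour
  subst hτ
  rw [map_one, mul_one] at hβ hne hfour
  refine ⟨g, by rw [map_one, mul_one], ?_⟩
  rw [← map_mul] at hβ
  obtain ⟨c, hc⟩ := center_smul (conjP_fieldP_eq_one le_rfl (A := g * g) (σ := 1) (by rw [map_one, mul_one, hβ])).1
  rw [Units.val_mul] at hc
  have h00 := congrFun (congrFun hc 0) 0
  have h01 := congrFun (congrFun hc 0) 1
  have h10 := congrFun (congrFun hc 1) 0
  have h11 := congrFun (congrFun hc 1) 1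
  simp [Matrix.mul_apply, Fin.sum_univ_two] at h00 h01 h10 h11
  have htr : (g : M2) 1 1 = -(g : M2) 0 0 := by
    by_contra ht
    have hs : (g : M2) 0 0 + (g : M2) 1 1 ≠ 0 := fun e => ht (by linear_combination e)
    have e01 : (g : M2) 0 1 = 0 :=
      (mul_eq_zero.1 (show (g : M2) 0 1 * ((g : M2) 0 0 + (g : M2) 1 1) = 0 by linear_combination h01)).resolve_right hs
    have e10 : (g : M2) 1 0 = 0 :=
      (mul_eq_zero.1 (show (g : M2) 1 0 * ((g : M2) 0 0 + (g : M2) 1 1) = 0 by linear_combination h10)).resolve_right hs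
    have e11 : (g : M2) 1 1 = (g : M2) 0 0 := sub_eq_zero.1
      ((mul_eq_zero.1 (show ((g : M2) 1 1 - (g : M2) 0 0) * ((g : M2) 0 0 + (g : M2) 1 1) = 0 by
        linear_combination h11 - h00)).resolve_right hs)
    refine hne (Cfsg.Lib.Known.AutPSLn.conjP_scalar (GeneralLinearGroup.mem_center_iff_val_mem_range_scalar.2
      ⟨(g : M2) 0 0, ?_⟩))
    ext i j; fin_cases i <;> fin_cases j <;> simp [e01, e10, e11]
  refine ⟨htr, fun hsq => hfour ?_⟩
  obtain ⟨d, hd⟩ := hsq
  have hd0 : d ≠ 0 := fun e => det_ne g (by rw [hd, e, mul_zero])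
  obtain ⟨W, hW, hgW⟩ := exists_anti hodd htr
  set U : S2 := ⟨d⁻¹ • (g : M2), by rw [Matrix.det_smul, Fintype.card_fin, hd]; field_simp⟩ with hU
  have hUv : (U : M2) = d⁻¹ • (g : M2) := rfl
  refine fixesFour_of_pair hodd (U := U) (V := W) ?_ hW ?_
    (conjP_map_eq (Or.inl ?_)) (conjP_map_eq (Or.inr hgW))
  · rw [hUv, smul_mul_assoc, mul_smul_comm, sq_trace_zero htr, hd, smul_smul, smul_smul]
    rw [show d⁻¹ * d⁻¹ * -(d * d) = -1 by field_simp, neg_smul, one_smul]
  · rw [hUv, smul_mul_assoc, hgW, mul_smul_comm, smul_neg]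
  · rw [hUv, smul_mul_assoc, mul_smul_comm]

end Cfsg.Lib.DihedralPair
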