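/-
Two distinct cyclic subgroups of the large odd torus order, one fixed and one inverted by an automorphism,
generate `PSL(2, q)` with an involution.
-/
import Cfsg.Agent.DihedralPair.Torus
import Cfsg.Agent.Classical.Misc.PSLDickson
import Cfsg.Agent.Classical.Misc.PSLFull
import Cfsg.Agent.Classical.Misc.PSLBounds
import Cfsg.Agent.Classical.Misc.PSLTori

set_option autoImplicit false
set_option linter.unusedSectionVars false
set_option linter.style.haveILetI false

namespace Cfsg.Lib.DihedralPair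

open Cfsg.Lib.Classical

set_option synthInstance.maxSize 2000 in
set_option synthInstance.maxHeartbeats 400000 in
theorem pair_four : ∀ x y : Equiv.Perm (Fin 4), x * x * x = 1 → x ≠ 1 → y * y * y = 1 → y ≠ 1 → y ≠ x → y ≠ x * x →
    ¬ ((x * y) * (x * y) * (x * y) = 1 ↔ (x * y⁻¹) * (x * y⁻¹) * (x * y⁻¹) = 1) := by
  decide +kernel

set_option synthInstance.maxSize 2000 in
set_option synthInstance.maxHeartbeats 400000 in
theorem pair_five : ∀ x y : alternatingGroup (Fin 5), x * x * x * x * x = 1 → x ≠ 1 → y * y * y * y * y = 1 → y ≠ 1 →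
    y ≠ x → y ≠ x * x → y ≠ x * x * x → y ≠ x * x * x * x →
    ¬ ((x * y) * (x * y) * (x * y) = 1 ↔ (x * y⁻¹) * (x * y⁻¹) * (x * y⁻¹) = 1) := by
  decide +kernel

/-- in a cyclic group the order determines the subgroup -/
theorem mem_zpowers_of_cyclic {α : Type*} [Group α] [Finite α] [IsCyclic α] {a b : α}
    (h : orderOf b ∣ orderOf a) : b ∈ Subgroup.zpowers a := by
  classical
  haveI := Fintype.ofFinite α
  set s := Finset.univ.filter fun c : α => c ^ orderOf a = 1 with hs
  have h1 : (Subgroup.zpowers a : Set α).toFinset = s := by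
    refine Finset.eq_of_subset_of_card_le (fun c hc => ?_) ?_
    · rw [Set.mem_toFinset, SetLike.mem_coe, Subgroup.mem_zpowers_iff] at hc
      obtain ⟨i, rfl⟩ := hc
      rw [hs, Finset.mem_filter]
      refine ⟨Finset.mem_univ _, ?_⟩
      rw [← zpow_natCast, ← zpow_mul, mul_comm, zpow_mul, zpow_natCast, pow_orderOf_eq_one, one_zpow]
    · refine (IsCyclic.card_pow_eq_one_le (orderOf_pos a)).trans ?_
      rw [Set.toFinset_card, ← Nat.card_eq_fintype_card]
      exact (Nat.card_zpowers a).ge
  have h2 : b ∈ s := by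
    rw [hs, Finset.mem_filter]
    exact ⟨Finset.mem_univ _, orderOf_dvd_iff_pow_eq_one.1 h⟩
  rw [← h1, Set.mem_toFinset] at h2
  exact h2

theorem torN_facts {q : ℕ} (hodd : q % 2 = 1) (h5 : 5 ≤ q) :
    3 ≤ torN q ∧ torN q % 2 = 1 ∧
      ((q % 4 = 1 ∧ 2 * torN q = q + 1) ∨ (q % 4 = 3 ∧ 2 * torN q + 1 = q)) := by
  unfold torN
  split_ifs with h
  · omega
  · omega

variable {F : Type} [Field F] [Fintype F]

local notation "P2" => Matrix.ProjectiveSpecialLinearGroup (Fin 2) F

theorem eq_top (hodd : Fintype.card F % 2 = 1) (h5 : 5 ≤ Fintype.card F) (H : Subgroup P2) {x y t : P2}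
    (hxH : x ∈ H) (hyH : y ∈ H) (hox : orderOf x = torN (Fintype.card F))
    (hoy : orderOf y = torN (Fintype.card F)) (φ : MulAut P2) (hφx : φ x = x) (hφy : φ y = y⁻¹)
    (htH : t ∈ H) (hto : orderOf t = 2) : H = ⊤ := by
  classical
  obtain ⟨p, hp⟩ := CharP.exists F
  obtain ⟨m₀, hprime, hm₀⟩ := FiniteField.card F p
  haveI := Fact.mk hprime
  set q := Fintype.card F with hq
  obtain ⟨hn3, hn2, hn⟩ := torN_facts hodd h5
  set n := torN q with hndef
  have hg : Nat.gcd 2 (q - 1) = 2 := Nat.gcd_eq_left (by omega)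
  have hcardP := PSLFull.card_mul (F := F) rfl
  rw [← hq, hg] at hcardP
  -- `y` is not a power of `x`
  have hynx : y ∉ Subgroup.zpowers x := by
    intro hy
    obtain ⟨i, hi⟩ := Subgroup.mem_zpowers_iff.1 hy
    have h1 : y = y⁻¹ := by rw [← hφy, ← hi, map_zpow, hφx]
    have h2 : orderOf y ∣ 2 := orderOf_dvd_of_pow_eq_one (by rw [pow_two]; nth_rw 2 [h1]; exact mul_inv_cancel y)
    rw [hoy] at h2
    have := Nat.le_of_dvd two_pos h2
    omega
  have hcyc : ∀ {α : Type} [Group α] [Finite α] [IsCyclic α] (f : α →* P2) (a b : α),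
      Function.Injective f → f a = x → f b = y → False := by
    intro α _ _ _ f a b hf ha hb
    have hab : orderOf b ∣ orderOf a := by
      rw [← orderOf_injective f hf a, ← orderOf_injective f hf b, ha, hb, hox, hoy]
    obtain ⟨i, hi⟩ := Subgroup.mem_zpowers_iff.1 (mem_zpowers_of_cyclic hab)
    exact hynx (Subgroup.mem_zpowers_iff.2 ⟨i, by rw [← ha, ← map_zpow, hi, hb]⟩)
  -- the small groups
  have hcube : ((x * y) * (x * y) * (x * y) = 1 ↔ (x * y⁻¹) * (x * y⁻¹) * (x * y⁻¹) = 1) := by
    have h1 : φ ((x * y) * (x * y) * (x * y)) = (x * y⁻¹) * (x * y⁻¹) * (x * y⁻¹) := by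
      simp [map_mul, hφx, hφy]
    rw [← h1, EmbeddingLike.map_eq_one_iff]
  set x' : H := ⟨x, hxH⟩
  set y' : H := ⟨y, hyH⟩
  have hcube' : ((x' * y') * (x' * y') * (x' * y') = 1 ↔ (x' * y'⁻¹) * (x' * y'⁻¹) * (x' * y'⁻¹) = 1) := by
    simpa [x', y', ← Subtype.coe_inj] using hcube
  have hpow : ∀ j : ℕ, y' ≠ x' ^ j := fun j e => hynx (by
    have e' : y = x ^ j := by simpa [x', y'] using congrArg Subtype.val e
    rw [e']; exact pow_mem (Subgroup.mem_zpowers x) j)
  have hfour : ∀ f : H →* Equiv.Perm (Fin 4), Function.Injective f → False := by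
    intro f hf
    have ho : ∀ z : H, orderOf (z : P2) = n → n = 3 ∧ f z * f z * f z = 1 ∧ f z ≠ 1 := by
      intro z hz
      have h1 : orderOf (f z) = n := by rw [orderOf_injective f hf, ← hz, Subgroup.orderOf_coe]
      have h2 := PSLTori.orders_symFour (f z)
      have h3 : n = 3 := by omega
      refine ⟨h3, ?_, fun e => by rw [e, orderOf_one] at h1; omega⟩
      rw [show f z * f z * f z = f z ^ 3 by simp only [pow_succ, pow_zero, one_mul], show (3 : ℕ) = orderOf (f z) by rw [h1, h3], pow_orderOf_eq_one]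
    obtain ⟨-, hx3, hx1⟩ := ho x' hox
    obtain ⟨-, hy3, hy1⟩ := ho y' hoy
    refine pair_four (f x') (f y') hx3 hx1 hy3 hy1 (fun e => hpow 1 (hf (by rw [pow_one]; exact e)))
      (fun e => hpow 2 (hf (by rw [map_pow, pow_two]; exact e))) ?_
    simp only [← map_inv, ← map_mul, map_eq_one_iff f hf]
    exact hcube'
  have hbound : ∀ (K : Type) [Field K] [Fintype K] (m : ℕ), 3 ≤ Fintype.card K → Fintype.card K ^ m = q →
      2 ≤ m → n ≤ Fintype.card K + 1 → False := by
    intro K _ _ m h3 hm hm2 hle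
    set r := Fintype.card K with hr
    have h1 : r * r ≤ q := by
      rw [← hm, ← pow_two]
      exact Nat.pow_le_pow_right (by omega) hm2
    rcases Nat.lt_or_ge r 4 with h4 | h4
    · have : r = 3 := by omega
      rw [this] at h1 hle
      omega
    · have h2 : 4 * r ≤ r * r := Nat.mul_le_mul h4 le_rfl
      omega
  rcases PSLDickson.dickson p (F := F) (q := q) rfl H with
    ⟨h, -⟩ | ⟨m, hm, ⟨e⟩, -⟩ | ⟨P, h⟩ | ⟨⟨e⟩⟩ | ⟨⟨e⟩⟩ | ⟨⟨e⟩⟩ | ⟨K, m, h3, hKodd, hm, ⟨e⟩⟩ | ⟨K, m, h3, hm, ⟨e⟩⟩
  · exact (hcyc H.subtype x' y' H.subtype_injective rfl rfl).elim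
  · -- dihedral
    haveI : NeZero m := ⟨hm⟩
    have hr : ∀ z : H, orderOf (z : P2) = n → e z ∈ Subgroup.zpowers (DihedralGroup.r (1 : ZMod m)) := by
      intro z hz
      cases hz' : e z with
      | r i => exact Subgroup.mem_zpowers_iff.2 ⟨i.val, by rw [zpow_natCast, DihedralGroup.r_one_pow, ZMod.natCast_zmod_val]⟩
      | sr i =>
        exfalso
        have h1 : orderOf (e z) = 2 := by rw [hz']; exact DihedralGroup.orderOf_sr i
        rw [MulEquiv.orderOf_eq, ← Subgroup.orderOf_coe, hz] at h1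
        omega
    refine (hcyc ((H.subtype.comp e.symm.toMonoidHom).comp (Subgroup.zpowers (DihedralGroup.r (1 : ZMod m))).subtype)
      ⟨e x', hr x' hox⟩ ⟨e y', hr y' hoy⟩
      ((H.subtype_injective.comp e.symm.injective).comp (Subgroup.subtype_injective _)) ?_ ?_).elim <;>
    simp [x', y']
  · -- Borel
    exfalso
    let i : F →+* AlgebraicClosure F := algebraMap F _
    haveI : CharP (AlgebraicClosure F) p := charP_of_injective_ringHom i.injective p
    have hb := PSLFull.borel_card i p (F := F) (q := q) rfl P H h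
    rw [hg] at hb
    have hx2 : orderOf x ∣ Nat.card H := by rw [← Subgroup.orderOf_mk x hxH]; exact orderOf_dvd_natCard _
    have ht2 : 2 ∣ Nat.card H := by
      have h1 := orderOf_dvd_natCard (⟨t, htH⟩ : H)
      rwa [Subgroup.orderOf_mk, hto] at h1
    rcases hn with ⟨h4, hn⟩ | ⟨h4, hn⟩
    · have h1 : q + 1 ∣ q * (q - 1) := by
        rw [← hn, mul_comm 2 n]
        exact (Nat.mul_dvd_mul_right (hox ▸ hx2) 2).trans hb
      have h2 : q + 1 ∣ q - 1 := (Nat.Coprime.symm (Nat.coprime_self_add_right.2 (Nat.coprime_one_right q)))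
        |>.dvd_of_dvd_mul_left h1
      have := Nat.le_of_dvd (by omega) h2
      omega
    · have h1 : 4 ∣ q * (q - 1) := (Nat.mul_dvd_mul_right ht2 2).trans hb
      have h2 : Nat.Coprime 4 q := by
        rw [show (4 : ℕ) = 2 ^ 2 from rfl]
        exact (Nat.coprime_two_left.2 (Nat.odd_iff.2 hodd)).pow_left 2
      have := h2.dvd_of_dvd_mul_left h1
      omega
  · exact (hfour ((alternatingGroup (Fin 4)).subtype.comp e.toMonoidHom)
      ((Subgroup.subtype_injective _).comp e.injective)).elim
  · exact (hfour e.toMonoidHom e.injective).elim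
  · -- icosahedral
    have ho : ∀ z : H, orderOf (z : P2) = n → orderOf (e z) = n ∧ n ≤ 5 := by
      intro z hz
      have h1 : orderOf (e z) = n := by rw [MulEquiv.orderOf_eq, ← hz, Subgroup.orderOf_coe]
      exact ⟨h1, h1 ▸ PSLTori.orders_altFive (e z)⟩
    obtain ⟨hex, hle⟩ := ho x' hox
    obtain ⟨hey, -⟩ := ho y' hoy
    rcases (show n = 3 ∨ n = 5 by omega) with h3 | h5'
    · have hH : Nat.card H = 60 := by
        rw [Nat.card_congr e.toEquiv, nat_card_alternatingGroup, Nat.card_fin]; rfl
      rcases (show q = 5 ∨ q = 7 by omega) with h | h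
      · refine Subgroup.eq_top_of_card_eq _ ?_
        rw [h] at hcardP
        omega
      · exfalso
        have hd := Subgroup.card_subgroup_dvd_card H
        rw [h] at hcardP
        rw [hH] at hd
        obtain ⟨c, hc⟩ := hd
        omega
    · exfalso
      have hp5 : ∀ z : H, orderOf (e z) = n → e z * e z * e z * e z * e z = 1 ∧ e z ≠ 1 := fun z hz =>
        ⟨by rw [show e z * e z * e z * e z * e z = e z ^ n by simp only [h5', pow_succ, pow_zero, one_mul], ← hz, pow_orderOf_eq_one],
          fun he => by rw [he, orderOf_one] at hz; omega⟩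
      obtain ⟨hx5, hx1⟩ := hp5 x' hex
      obtain ⟨hy5, hy1⟩ := hp5 y' hey
      refine pair_five (e x') (e y') hx5 hx1 hy5 hy1 (fun he => hpow 1 (e.injective (by simpa using he)))
        (fun he => hpow 2 (e.injective (by rw [he, pow_two, map_mul])))
        (fun he => hpow 3 (e.injective (by rw [he, pow_succ, pow_two, map_mul, map_mul])))
        (fun he => hpow 4 (e.injective (by rw [he, pow_succ, pow_succ, pow_two, map_mul, map_mul, map_mul]))) ?_
      simp only [← map_inv, ← map_mul, map_eq_one_iff e e.injective]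
      exact hcube'
  · -- subfield, special
    rcases Nat.lt_or_ge m 2 with hm2 | hm2
    · have hm1 : m = 1 := by
        rcases m with _ | _ | m
        · rw [pow_zero] at hm; omega
        · rfl
        · omega
      rw [hm1, pow_one] at hm
      refine Subgroup.eq_top_of_card_eq _ ?_
      have h2 := PSLFull.card_mul (F := K) rfl
      rw [hm, hg] at h2
      rw [Nat.card_congr e.toEquiv]
      omega
    · refine (hbound K m h3 hm hm2 ?_).elim
      rw [← hox]
      calc orderOf x = orderOf (Matrix.ProjectiveSpecialLinearGroup.toPGL (e x')) := by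
            rw [orderOf_injective _ Matrix.ProjectiveSpecialLinearGroup.toPGL_injective, MulEquiv.orderOf_eq,
              Subgroup.orderOf_mk]
        _ ≤ _ := PSLBounds.orderOf_pgl _
  · -- subfield, projective general
    exfalso
    rcases Nat.lt_or_ge m 2 with hm2 | hm2
    · have hm1 : m = 1 := by
        rcases m with _ | _ | m
        · rw [pow_zero] at hm; omega
        · rfl
        · omega
      rw [hm1, pow_one] at hm
      have h2 := Subgroup.card_le_card_group H
      rw [Nat.card_congr e.toEquiv, PSLBounds.card_pgl_two, hm] at h2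
      have h1 : (q + 1) * q * (q - 1) = q * (q ^ 2 - 1) := by
        rw [show q ^ 2 - 1 = (q + 1) * (q - 1) by rw [pow_two]; exact (Nat.mul_self_sub_mul_self_eq q 1).symm ▸ rfl]
        ring
      have hpos : 0 < q * (q ^ 2 - 1) := Nat.mul_pos (by omega) (by
        have : 2 ^ 2 ≤ q ^ 2 := Nat.pow_le_pow_left (by omega) 2
        omega)
      omega
    · refine hbound K m h3 hm hm2 ?_
      rw [← hox]
      calc orderOf x = orderOf (e x') := by rw [MulEquiv.orderOf_eq, Subgroup.orderOf_mk]
        _ ≤ _ := PSLBounds.orderOf_pgl _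

end Cfsg.Lib.DihedralPair
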