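/-
Two commuting involutory automorphisms of a simple group with dihedral Sylow 2-subgroups, each with cyclic fixed
Sylow 2-subgroups: equal, or their fixed points generate.
-/
import Cfsg.Agent.DihedralPair.Auto
import Cfsg.Agent.DihedralPair.Generate
import Cfsg.Agent.GWDihedral.Shell.Target
import Cfsg.Agent.OneComposite.Main
import Cfsg.Agent.S2119

set_option autoImplicit false
set_option linter.unusedSectionVars false
set_option linter.style.haveILetI false

namespace Cfsg.Lib.DihedralPair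

open Matrix Cfsg.Lib.Known.AutPSLn Cfsg.Lib.CyclicNorm

section PSL

variable {F : Type} [Field F] [Fintype F]

local notation "M2" => Matrix (Fin 2) (Fin 2) F
local notation "GL2" => GL (Fin 2) F
local notation "S2" => Matrix.SpecialLinearGroup (Fin 2) F
local notation "P2" => Matrix.ProjectiveSpecialLinearGroup (Fin 2) F
local notation "πP" => QuotientGroup.mk' (Subgroup.center S2)

theorem fixesFour_one (hodd : Fintype.card F % 2 = 1) : FixesFour (1 : MulAut P2) := by
  obtain ⟨h, hh, hJ, -⟩ := Cfsg.Lib.Classical.PSLFour.exists_anti (Nat.odd_iff.2 hodd : Odd (Fintype.card F))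
  exact fixesFour_of_pair hodd (U := Cfsg.Lib.Classical.PSLFour.J) (V := h)
    (congrArg Subtype.val Cfsg.Lib.Classical.PSLFour.J_sq) (congrArg Subtype.val hh) (congrArg Subtype.val hJ) rfl rfl

/-- the two automorphisms of `PSL(2, q)` -/
theorem pair_psl (hodd : Fintype.card F % 2 = 1) (h5 : 5 ≤ Fintype.card F) {α β : MulAut P2}
    (hα : α * α = 1) (hβ : β * β = 1) (hc : α * β = β * α) (h4α : ¬ FixesFour α) (h4β : ¬ FixesFour β) :
    α * β = 1 ∨ ∀ H : Subgroup P2, (∀ z, α z = z → z ∈ H) → (∀ z, β z = z → z ∈ H) → H = ⊤ := by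
  obtain ⟨A, rfl, htA, hdA⟩ := outer_form hodd hα (fun e => h4α (e ▸ fixesFour_one hodd)) h4α
  obtain ⟨B, rfl, htB, hdB⟩ := outer_form hodd hβ (fun e => h4β (e ▸ fixesFour_one hodd)) h4β
  rw [← map_mul, ← map_mul] at hc
  obtain ⟨c, hAB⟩ := conjP_eq_iff hc
  rw [Units.val_mul, Units.val_mul] at hAB
  have hc2 : c * c = 1 := by
    have h := congrArg Matrix.det hAB
    rw [det_smul, Fintype.card_fin, det_mul, det_mul] at h
    refine mul_right_cancel₀ (mul_ne_zero (det_ne B) (det_ne A)) ?_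
    linear_combination -h
  rcases mul_self_eq_one_iff.1 hc2 with rfl | rfl
  · -- commuting matrices: the product is scalar
    left
    rw [← map_mul]
    rw [one_smul] at hAB
    have h01 := congrFun (congrFun hAB 0) 1
    have h10 := congrFun (congrFun hAB 1) 0
    have h00 := congrFun (congrFun hAB 0) 0
    simp [Matrix.mul_apply, Fin.sum_univ_two, htA, htB] at h00 h01 h10
    refine Cfsg.Lib.Known.AutPSLn.conjP_scalar (GeneralLinearGroup.mem_center_iff_val_mem_range_scalar.2
      ⟨(A : M2) 0 0 * (B : M2) 0 0 + (A : M2) 0 1 * (B : M2) 1 0, ?_⟩)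
    rw [Units.val_mul]
    have h2 := two_ne (F := F) hodd
    have e01 : (A : M2) 0 0 * (B : M2) 0 1 - (A : M2) 0 1 * (B : M2) 0 0 = 0 :=
      (mul_eq_zero.1 (show (2 : F) * ((A : M2) 0 0 * (B : M2) 0 1 - (A : M2) 0 1 * (B : M2) 0 0) = 0 by
        linear_combination h01)).resolve_left h2
    have e10 : (A : M2) 1 0 * (B : M2) 0 0 - (A : M2) 0 0 * (B : M2) 1 0 = 0 :=
      (mul_eq_zero.1 (show (2 : F) * ((A : M2) 1 0 * (B : M2) 0 0 - (A : M2) 0 0 * (B : M2) 1 0) = 0 by
        linear_combination h10)).resolve_left h2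
    ext i j
    fin_cases i <;> fin_cases j <;> simp [Matrix.mul_apply, Fin.sum_univ_two, htA, htB]
    · linear_combination -e01
    · linear_combination -e10
    · linear_combination h00
  · -- anticommuting matrices
    right
    intro H hHα hHβ
    rw [neg_one_smul] at hAB
    obtain ⟨x, u, hx, hox⟩ := exists_el_order hodd htA hdA
    obtain ⟨y, v, hy, hoy⟩ := exists_el_order hodd htB hdB
    set X := el A htA x u hx
    set Y := el B htB y v hy
    have hXfix : (conjP A : MulAut P2) (πP X) = πP X := conjP_map_eq (Or.inl (by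
      rw [coe_el, mul_add, add_mul, mul_smul_comm, mul_smul_comm, smul_mul_assoc, smul_mul_assoc, mul_one, one_mul]))
    have hYfix : (conjP B : MulAut P2) (πP Y) = πP Y := conjP_map_eq (Or.inl (by
      rw [coe_el, mul_add, add_mul, mul_smul_comm, mul_smul_comm, smul_mul_assoc, smul_mul_assoc, mul_one, one_mul]))
    have hYinv : (conjP A : MulAut P2) (πP Y) = (πP Y)⁻¹ := by
      rw [← map_inv]
      exact conjP_map_eq (Or.inl (el_anti htB hy hAB))
    obtain ⟨W, hW, hAW⟩ := exists_anti hodd htA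
    have hWfix : (conjP A : MulAut P2) (πP W) = πP W := conjP_map_eq (Or.inr hAW)
    have hWo : orderOf (πP W) = 2 := by
      refine orderOf_eq_prime ?_ ?_
      · rw [pow_two, ← map_mul, π_eq_one]; exact Or.inr hW
      · intro e
        rcases π_eq_one.1 e with e | e <;> rw [e] at hW <;>
          exact Cfsg.Lib.PSLTwoDihedral.neg_one_ne_one hodd (by simpa using hW.symm)
    exact eq_top hodd h5 H (hHα _ hXfix) (hHβ _ hYfix) hox hoy (conjP A) hXfix hYinv (hHα _ hWfix) hWo

end PSL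

theorem isConj_of_support {n : ℕ} {σ s : Equiv.Perm (Fin n)} (hσ : σ ^ 2 = 1) (hs : s ^ 2 = 1)
    (h : σ.support.card = s.support.card) : IsConj σ s := by
  haveI : Fact (Nat.Prime 2) := ⟨Nat.prime_two⟩
  have key : ∀ π : Equiv.Perm (Fin n), π ^ 2 = 1 → ∀ k ∈ π.cycleType, k = 2 := fun π hπ k hk => by
    have h1 : orderOf π ∣ 2 := orderOf_dvd_of_pow_eq_one hπ
    have h2 := (Equiv.Perm.dvd_of_mem_cycleType hk).trans h1
    have h3 := Equiv.Perm.two_le_of_mem_cycleType hk
    have := Nat.le_of_dvd two_pos h2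
    omega
  refine Equiv.Perm.isConj_iff_cycleType_eq.2 ?_
  rw [Multiset.eq_replicate_card.2 (key σ hσ), Multiset.eq_replicate_card.2 (key s hs)]
  congr 1
  have e1 := σ.sum_cycleType
  have e2 := s.sum_cycleType
  rw [Multiset.eq_replicate_card.2 (key σ hσ), Multiset.sum_replicate, smul_eq_mul] at e1
  rw [Multiset.eq_replicate_card.2 (key s hs), Multiset.sum_replicate, smul_eq_mul] at e2
  omega

theorem seven_pairs : ∀ k : Fin 4, ∃ s u v : Equiv.Perm (Fin 7), s * s = 1 ∧ s.support.card = 2 * k.val ∧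
    Equiv.Perm.sign u = 1 ∧ Equiv.Perm.sign v = 1 ∧ u * u = 1 ∧ v * v = 1 ∧ u ≠ 1 ∧ v ≠ 1 ∧ u ≠ v ∧
    u * v = v * u ∧ s * u = u * s ∧ s * v = v * s := by
  intro k
  fin_cases k
  · exact ⟨1, Equiv.swap 2 3 * Equiv.swap 4 5, Equiv.swap 2 4 * Equiv.swap 3 5, by decide +kernel⟩
  · exact ⟨Equiv.swap 0 1, Equiv.swap 2 3 * Equiv.swap 4 5, Equiv.swap 2 4 * Equiv.swap 3 5, by decide +kernel⟩
  · exact ⟨Equiv.swap 0 1 * Equiv.swap 2 3, Equiv.swap 0 1 * Equiv.swap 2 3, Equiv.swap 0 2 * Equiv.swap 1 3,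
      by decide +kernel⟩
  · exact ⟨Equiv.swap 0 1 * Equiv.swap 2 3 * Equiv.swap 4 5, Equiv.swap 0 1 * Equiv.swap 2 3,
      Equiv.swap 0 2 * Equiv.swap 1 3, by decide +kernel⟩

/-- every involutory automorphism of `A₇` fixes a four-group -/
theorem fixesFour_seven {α : MulAut (alternatingGroup (Fin 7))} (hα : α * α = 1) : FixesFour α := by
  have hbij := Cfsg.Agent.S2119.result 7 (by norm_num) (by norm_num)
  obtain ⟨σ, rfl⟩ := hbij.2 α
  have hσ : σ ^ 2 = 1 := by
    refine hbij.1 ?_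
    rw [pow_two, map_mul, hα, map_one]
  have hk : ∃ k : Fin 4, σ.support.card = 2 * k.val := by
    have h1 : 2 ∣ σ.support.card := by
      rw [← σ.sum_cycleType]
      refine Multiset.dvd_sum fun c hc => ?_
      have h2 := (Equiv.Perm.dvd_of_mem_cycleType hc).trans (orderOf_dvd_of_pow_eq_one hσ)
      have := Equiv.Perm.two_le_of_mem_cycleType hc
      have := Nat.le_of_dvd two_pos h2
      omega
    have h3 := σ.support.card_le_univ
    rw [Fintype.card_fin] at h3
    exact ⟨⟨σ.support.card / 2, by omega⟩, by simp only []; omega⟩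
  obtain ⟨k, hk⟩ := hk
  obtain ⟨s, u, v, hs, hsk, su, sv, hu, hv, hu1, hv1, huv, hcomm, hsu, hsv⟩ := seven_pairs k
  obtain ⟨c, hc⟩ := isConj_iff.1 (isConj_of_support hσ (by rw [pow_two]; exact hs) (hk.trans hsk.symm))
  have hσc : σ = c⁻¹ * s * c := by rw [← hc]; group
  have hfix : ∀ w : Equiv.Perm (Fin 7), s * w = w * s → σ * (c⁻¹ * w * c) * σ⁻¹ = c⁻¹ * w * c := by
    intro w hw
    rw [hσc, mul_inv_eq_iff_eq_mul]
    calc c⁻¹ * s * c * (c⁻¹ * w * c) = c⁻¹ * (s * w) * c := by group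
      _ = c⁻¹ * (w * s) * c := by rw [hw]
      _ = _ := by group
  have hmem : ∀ w : Equiv.Perm (Fin 7), Equiv.Perm.sign w = 1 → c⁻¹ * w * c ∈ alternatingGroup (Fin 7) := fun w hw =>
    Equiv.Perm.mem_alternatingGroup.2 (by simp [hw])
  have hone : ∀ w : Equiv.Perm (Fin 7), c⁻¹ * w * c = 1 → w = 1 := fun w e => by
    calc w = c * (c⁻¹ * w * c) * c⁻¹ := by group
      _ = 1 := by rw [e]; group
  refine ⟨⟨_, hmem u su⟩, ⟨_, hmem v sv⟩, Subtype.ext (hfix u hsu), Subtype.ext (hfix v hsv), Subtype.ext ?_,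
    Subtype.ext ?_, fun e => hu1 (hone u (congrArg Subtype.val e)), fun e => hv1 (hone v (congrArg Subtype.val e)),
    fun e => huv (mul_left_cancel (mul_right_cancel (congrArg Subtype.val e))), Subtype.ext ?_⟩
  · show c⁻¹ * u * c * (c⁻¹ * u * c) = 1
    rw [show c⁻¹ * u * c * (c⁻¹ * u * c) = c⁻¹ * (u * u) * c by group, hu]; group
  · show c⁻¹ * v * c * (c⁻¹ * v * c) = 1
    rw [show c⁻¹ * v * c * (c⁻¹ * v * c) = c⁻¹ * (v * v) * c by group, hv]; group
  · show c⁻¹ * u * c * (c⁻¹ * v * c) = c⁻¹ * v * c * (c⁻¹ * u * c)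
    rw [show c⁻¹ * u * c * (c⁻¹ * v * c) = c⁻¹ * (u * v) * c by group, hcomm]; group

theorem FixesFour.congr {P Q : Type*} [Group P] [Group Q] (e : P ≃* Q) {α : MulAut P}
    (h : FixesFour (MulAut.congr e α)) : FixesFour α := by
  obtain ⟨u, v, h1, h2, h3, h4, h5, h6, h7, h8⟩ := h
  have key : ∀ w, MulAut.congr e α w = w → α (e.symm w) = e.symm w := fun w hw => by
    apply e.injective
    rw [e.apply_symm_apply]
    exact hw
  refine ⟨e.symm u, e.symm v, key u h1, key v h2, ?_, ?_, ?_, ?_, ?_, ?_⟩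
  · rw [← map_mul, h3, map_one]
  · rw [← map_mul, h4, map_one]
  · exact fun e' => h5 ((map_eq_one_iff e.symm e.symm.injective).1 e')
  · exact fun e' => h6 ((map_eq_one_iff e.symm e.symm.injective).1 e')
  · exact fun e' => h7 (e.symm.injective e')
  · rw [← map_mul, h8, map_mul]

universe u

/-- THE ROW, given the dihedral theorem -/
theorem product_centralizes (hDP : GWD.DihedralProp.{u}) {G : Type u} [Group G] [Finite G] (L : Subgroup G)
    (hL : IsSimpleGroup L) (hLn : ¬ IsMulCommutative L)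
    (hD : ∀ P : Sylow 2 L, ∃ n : ℕ, Nonempty (↥(P : Subgroup L) ≃* DihedralGroup n))
    (a b : G) (ha : orderOf a = 2) (hb : orderOf b = 2) (hc : a * b = b * a)
    (haL : a ∈ Subgroup.normalizer (L : Set G)) (hbL : b ∈ Subgroup.normalizer (L : Set G))
    (hCa : ∀ R : Sylow 2 ↥(L ⊓ Subgroup.centralizer ({a} : Set G)), IsCyclic R)
    (hCb : ∀ R : Sylow 2 ↥(L ⊓ Subgroup.centralizer ({b} : Set G)), IsCyclic R)
    (hgen : ¬ L ≤ Subgroup.closure ({a, b} : Set G) ⊔ (L ⊓ Subgroup.centralizer ({a} : Set G)) ⊔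
      (L ⊓ Subgroup.centralizer ({b} : Set G))) :
    a * b ∈ Subgroup.centralizer (L : Set G) := by
  classical
  haveI := hL
  haveI : Fact (Nat.Prime 2) := ⟨Nat.prime_two⟩
  obtain ⟨S⟩ : Nonempty (Sylow 2 L) := inferInstance
  obtain ⟨m, hS⟩ := hD S
  have hm : 2 ≤ m := by
    obtain ⟨e⟩ := hS
    have hcard : Nat.card (S : Subgroup L) = 2 * m := by rw [Nat.card_congr e.toEquiv, DihedralGroup.nat_card]
    have hpos : 0 < Nat.card (S : Subgroup L) := Nat.card_pos
    have h2 : 2 ∣ Nat.card L := (dvd_mul_right 2 m).trans (hcard ▸ Subgroup.card_subgroup_dvd_card (S : Subgroup L))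
    obtain ⟨t, ht⟩ := exists_prime_orderOf_dvd_card' (G := L) 2 h2
    have := Cfsg.Lib.OneComposite.four_le_sylow hLn S ht
    omega
  let θ : ↥(Subgroup.normalizer (L : Set G)) →* MulAut L := Subgroup.normalizerMonoidHom L
  set α := θ ⟨a, haL⟩ with hαdef
  set β := θ ⟨b, hbL⟩ with hβdef
  have hθ : ∀ (g : G) (hg : g ∈ Subgroup.normalizer (L : Set G)) (x : L),
      ((θ ⟨g, hg⟩ x : L) : G) = g * x * g⁻¹ := fun g hg x => rfl
  have hα2 : α * α = 1 := by
    rw [hαdef, ← map_mul, show (⟨a, haL⟩ * ⟨a, haL⟩ : ↥(Subgroup.normalizer (L : Set G))) = 1 from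
      Subtype.ext (by rw [Subgroup.coe_mul, ← pow_two, ← ha, pow_orderOf_eq_one]; rfl), map_one]
  have hβ2 : β * β = 1 := by
    rw [hβdef, ← map_mul, show (⟨b, hbL⟩ * ⟨b, hbL⟩ : ↥(Subgroup.normalizer (L : Set G))) = 1 from
      Subtype.ext (by rw [Subgroup.coe_mul, ← pow_two, ← hb, pow_orderOf_eq_one]; rfl), map_one]
  have hαβ : α * β = β * α := by
    rw [hαdef, hβdef, ← map_mul, ← map_mul]
    exact congrArg θ (Subtype.ext hc)
  have hfixmem : ∀ (g : G) (hg : g ∈ Subgroup.normalizer (L : Set G)) (x : L), θ ⟨g, hg⟩ x = x →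
      (x : G) ∈ L ⊓ Subgroup.centralizer ({g} : Set G) := fun g hg x hx =>
    ⟨x.2, Subgroup.mem_centralizer_singleton_iff.2 (mul_inv_eq_iff_eq_mul.1 (congrArg Subtype.val hx)).symm⟩
  have hno : ∀ (g : G) (hg : g ∈ Subgroup.normalizer (L : Set G)),
      (∀ R : Sylow 2 ↥(L ⊓ Subgroup.centralizer ({g} : Set G)), IsCyclic R) → ¬ FixesFour (θ ⟨g, hg⟩) := by
    rintro g hg hcyc ⟨u, v, hu, hv, hu2, hv2, hu1, hv1, huv, huvc⟩
    set C := L ⊓ Subgroup.centralizer ({g} : Set G)
    set u' : C := ⟨u, hfixmem g hg u hu⟩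
    set v' : C := ⟨v, hfixmem g hg v hv⟩
    have h1 : u' * u' = 1 := Subtype.ext (by simpa [u'] using congrArg Subtype.val hu2)
    have h2 : v' * v' = 1 := Subtype.ext (by simpa [v'] using congrArg Subtype.val hv2)
    have h3 : u' * v' = v' * u' := Subtype.ext (by simpa [u', v'] using congrArg Subtype.val huvc)
    have hP : IsPGroup 2 ↥(Subgroup.closure ({u', v'} : Set C)) := by
      haveI : IsMulCommutative ↥(Subgroup.closure ({u', v'} : Set C)) := Subgroup.isMulCommutative_closure fun p hp r hr => by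
        simp only [Set.mem_insert_iff, Set.mem_singleton_iff] at hp hr
        rcases hp with rfl | rfl <;> rcases hr with rfl | rfl
        exacts [rfl, h3, h3.symm, rfl]
      intro p
      refine ⟨1, ?_⟩
      obtain ⟨p, hp⟩ := p
      refine Subtype.ext ?_
      show p ^ 2 ^ 1 = 1
      rw [pow_one, pow_two]
      induction hp using Subgroup.closure_induction with
      | mem z hz =>
        simp only [Set.mem_insert_iff, Set.mem_singleton_iff] at hz
        rcases hz with rfl | rfl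
        exacts [h1, h2]
      | one => rw [one_mul]
      | mul p r hp hr ihp ihr =>
        have hpr : p * r = r * p := congrArg Subtype.val (mul_comm' (⟨p, hp⟩ : ↥(Subgroup.closure ({u', v'} : Set C))) ⟨r, hr⟩)
        rw [show p * r * (p * r) = p * (r * p) * r by group, ← hpr,
          show p * (p * r) * r = p * p * (r * r) by group, ihp, ihr, one_mul]
      | inv p _ ih => rw [← _root_.mul_inv_rev, ih, inv_one]
    obtain ⟨R, hR⟩ := hP.exists_le_sylow
    haveI := hcyc R
    have hm1 : u' ∈ (R : Subgroup C) := hR (Subgroup.subset_closure (by simp))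
    have hm2 : v' ∈ (R : Subgroup C) := hR (Subgroup.subset_closure (by simp))
    have hne1 : u' ≠ 1 := fun e => hu1 (Subtype.ext (by simpa [u'] using congrArg Subtype.val e))
    have hne2 : v' ≠ 1 := fun e => hv1 (Subtype.ext (by simpa [v'] using congrArg Subtype.val e))
    have hou : orderOf (⟨u', hm1⟩ : (R : Subgroup C)) = 2 := by
      rw [Subgroup.orderOf_mk]; exact orderOf_eq_prime (by rw [pow_two]; exact h1) hne1
    have hov : orderOf (⟨v', hm2⟩ : (R : Subgroup C)) = 2 := by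
      rw [Subgroup.orderOf_mk]; exact orderOf_eq_prime (by rw [pow_two]; exact h2) hne2
    obtain ⟨i, hi⟩ := Subgroup.mem_zpowers_iff.1
      (mem_zpowers_of_cyclic (a := (⟨u', hm1⟩ : (R : Subgroup C))) (b := ⟨v', hm2⟩) (by rw [hou, hov]))
    rw [← zpow_mod_orderOf, hou] at hi
    have hi' : u' ^ (i % ((2 : ℕ) : ℤ)) = v' := by simpa using congrArg Subtype.val hi
    rcases Int.emod_two_eq_zero_or_one i with e | e
    · rw [show ((2 : ℕ) : ℤ) = 2 from rfl, e, zpow_zero] at hi'
      exact hne2 hi'.symm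
    · rw [show ((2 : ℕ) : ℤ) = 2 from rfl, e, zpow_one] at hi'
      exact huv (Subtype.ext (by simpa [u', v'] using congrArg Subtype.val hi'))
  have h4α := hno a haL hCa
  have h4β := hno b hbL hCb
  rcases hDP L S m hm hS with ⟨F, _, _, hFodd, h5, ⟨e⟩⟩ | ⟨⟨e⟩⟩
  · have hodd : Fintype.card F % 2 = 1 := Nat.odd_iff.1 hFodd
    rcases pair_psl hodd h5 (α := MulAut.congr e α) (β := MulAut.congr e β) (by rw [← map_mul, hα2, map_one])
        (by rw [← map_mul, hβ2, map_one]) ((map_mul (MulAut.congr e) α β).symm.trans ((congrArg _ hαβ).trans (map_mul (MulAut.congr e) β α)))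
        (fun h => h4α (h.congr e)) (fun h => h4β (h.congr e)) with h | h
    · have h1 : θ (⟨a, haL⟩ * ⟨b, hbL⟩) = 1 := (MulAut.congr e).injective (by rw [map_mul θ, map_mul, map_one]; exact h)
      refine Subgroup.mem_centralizer_iff.2 fun x hx => ?_
      have h2 : a * b * x * (a * b)⁻¹ = x := congrArg (fun f : MulAut L => ((f ⟨x, hx⟩ : L) : G)) h1
      exact (mul_inv_eq_iff_eq_mul.1 h2).symm
    · exfalso
      apply hgen
      set J := Subgroup.closure ({a, b} : Set G) ⊔ (L ⊓ Subgroup.centralizer ({a} : Set G)) ⊔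
        (L ⊓ Subgroup.centralizer ({b} : Set G))
      have htop := h ((J.subgroupOf L).map e.toMonoidHom)
        (fun z hz => ⟨e.symm z, Subgroup.mem_sup_left (Subgroup.mem_sup_right (hfixmem a haL _ (by
          apply e.injective; rw [e.apply_symm_apply]; exact hz))), e.apply_symm_apply z⟩)
        (fun z hz => ⟨e.symm z, Subgroup.mem_sup_right (hfixmem b hbL _ (by
          apply e.injective; rw [e.apply_symm_apply]; exact hz)), e.apply_symm_apply z⟩)
      intro x hx
      obtain ⟨y, hy, hyx⟩ := (htop.ge (Subgroup.mem_top (e ⟨x, hx⟩)) : e ⟨x, hx⟩ ∈ (J.subgroupOf L).map e.toMonoidHom)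
      have hy' : y = (⟨x, hx⟩ : L) := e.injective hyx
      rw [hy'] at hy
      exact hy
  · exact absurd (fixesFour_seven (α := MulAut.congr e α) (by rw [← map_mul, hα2, map_one])) (fun h => h4α (h.congr e))

end Cfsg.Lib.DihedralPair
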